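import Cfsg.Agent.Lib.Spor55.Sp4Mat
import Cfsg.Agent.Lib.Spor55.FusTwo

/-!
The `2`-fusion system of `PSp₄(q)` for odd `q`.
-/

set_option autoImplicit false
set_option linter.unusedSectionVars false
open Matrix MatrixGroups Subgroup H41 H55.Fus H64.SL2

namespace H55.Sp4

variable {F : Type*} [Field F]

/-- the projection on the projective group -/
abbrev pr (F : Type*) [Field F] : Sp F →* Sp F ⧸ center (Sp F) := QuotientGroup.mk' _

theorem m_comm (g : Sp F) : g * io F (-1, -1) = io F (-1, -1) * g :=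
  Subgroup.mem_center_iff.1 (mem_center_iff.2 (Or.inr rfl)) g

theorem pr_eq {x y : Sp F} (h : pr F x = pr F y) : x = y ∨ x = io F (-1, -1) * y := by
  have : x * y⁻¹ ∈ center (Sp F) := (QuotientGroup.eq_one_iff _).1 (by
    change pr F _ = 1
    rw [map_mul, h, map_inv, mul_inv_cancel])
  simpa only [mul_inv_eq_iff_eq_mul, one_mul] using mem_center_iff.1 this

theorem pr_m (x : Sp F) : pr F (io F (-1, -1) * x) = pr F x := by
  rw [map_mul, show pr F (io F (-1, -1)) = 1 from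
    (QuotientGroup.eq_one_iff _).2 (mem_center_iff.2 (Or.inr rfl)), one_mul]

theorem io_mul (a b c d : SL(2, F)) : io F (a, b) * io F (c, d) = io F (a * c, b * d) :=
  (map_mul _ _ _).symm

theorem io_inv (a b : SL(2, F)) : (io F (a, b))⁻¹ = io F (a⁻¹, b⁻¹) := (map_inv _ _).symm

theorem io_eq {a b c d : SL(2, F)} : io F (a, b) = io F (c, d) ↔ a = c ∧ b = d :=
  io_inj.eq_iff.trans Prod.ext_iff

theorem tt_inv : (tt F)⁻¹ = tt F := inv_eq_of_mul_eq_one_right tt_tt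

theorem io_tt_io (a b c d : SL(2, F)) :
    io F (a, b) * tt F * io F (c, d) = io F (a * d, b * c) * tt F := by
  rw [mul_assoc, tt_io, ← mul_assoc, io_mul]

theorem io_ne (a b c d : SL(2, F)) : io F (a, b) ≠ io F (c, d) * tt F := fun h =>
  io_ne_tt (c⁻¹ * a, d⁻¹ * b) (by rw [← io_mul, h, ← io_inv, inv_mul_cancel_left])

/-- the wreath product of a subgroup of `SL₂` -/
def wr (Q : Subgroup SL(2, F)) : Subgroup (Sp F) where
  carrier := {g | ∃ x ∈ Q, ∃ y ∈ Q, g = io F (x, y) ∨ g = io F (x, y) * tt F}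
  one_mem' := ⟨1, Q.one_mem, 1, Q.one_mem, Or.inl (map_one _).symm⟩
  mul_mem' := by
    rintro _ _ ⟨a, ha, b, hb, rfl | rfl⟩ ⟨c, hc, d, hd, rfl | rfl⟩
    · exact ⟨_, Q.mul_mem ha hc, _, Q.mul_mem hb hd, Or.inl (io_mul ..)⟩
    · exact ⟨_, Q.mul_mem ha hc, _, Q.mul_mem hb hd, Or.inr (by rw [← mul_assoc, io_mul])⟩
    · exact ⟨_, Q.mul_mem ha hd, _, Q.mul_mem hb hc, Or.inr (io_tt_io ..)⟩
    · exact ⟨_, Q.mul_mem ha hd, _, Q.mul_mem hb hc, Or.inl (by
        rw [← mul_assoc, io_tt_io, mul_assoc, tt_tt, mul_one])⟩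
  inv_mem' := by
    rintro _ ⟨a, ha, b, hb, rfl | rfl⟩
    · exact ⟨_, Q.inv_mem ha, _, Q.inv_mem hb, Or.inl (io_inv ..)⟩
    · exact ⟨_, Q.inv_mem hb, _, Q.inv_mem ha, Or.inr (by
        rw [_root_.mul_inv_rev, tt_inv, io_inv, tt_io])⟩

variable {Q : Subgroup SL(2, F)}

theorem io_mem {x y : SL(2, F)} : io F (x, y) ∈ wr Q ↔ x ∈ Q ∧ y ∈ Q := by
  refine ⟨?_, fun h => ⟨x, h.1, y, h.2, Or.inl rfl⟩⟩
  rintro ⟨a, ha, b, hb, h | h⟩
  · obtain ⟨rfl, rfl⟩ := io_eq.1 h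
    exact ⟨ha, hb⟩
  · exact absurd h (io_ne _ _ _ _)

theorem tt_mem : tt F ∈ wr Q :=
  ⟨1, Q.one_mem, 1, Q.one_mem, Or.inr (by rw [Prod.mk_one_one, map_one, one_mul])⟩

theorem card_wr : Nat.card (wr Q) = 2 * Nat.card Q ^ 2 := by
  have hle : (Q.prod Q).map (io F) ≤ wr Q := by
    rintro _ ⟨x, hx, rfl⟩
    exact io_mem.2 hx
  have : ((Q.prod Q).map (io F)).relIndex (wr Q) = 2 := by
    rw [Subgroup.relIndex, index_eq_two_iff_exists_notMem_and]
    refine ⟨⟨_, tt_mem⟩, fun ⟨x, _, h⟩ => io_ne_tt x h, ?_⟩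
    rintro ⟨_, a, ha, b, hb, rfl | rfl⟩
    · exact Or.inr ⟨(a, b), ⟨ha, hb⟩, rfl⟩
    · exact Or.inl ⟨(a, b), ⟨ha, hb⟩, by simp [mul_assoc, tt_tt]⟩
  rw [← H1.card_mul_relIndex_of_le hle, this, card_map_of_injective io_inj,
    Nat.card_congr (prodEquiv Q Q).toEquiv, Nat.card_prod]
  ring

/-- a generalised quaternion subgroup of `SL₂` -/
structure GQ (Q : Subgroup SL(2, F)) (k : ℕ) (a b : SL(2, F)) : Prop where
  two : (2 : F) ≠ 0
  ord : orderOf a = 4 * 2 ^ k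
  bb : b * b = -1
  ww : a ^ 2 ^ k * a ^ 2 ^ k = -1
  conj : b * a * b⁻¹ = a⁻¹
  notMem : b ∉ zpowers a
  mem : ∀ g, g ∈ Q ↔ ∃ i : ℤ, g = a ^ i ∨ g = a ^ i * b

theorem exists_gq [Finite F] (hF : Odd (Nat.card F)) (Q : Sylow 2 SL(2, F)) :
    ∃ k a b, GQ (Q : Subgroup SL(2, F)) k a b := by
  have h2 := H10.two_ne_zero_of_odd_card hF
  obtain ⟨k, hk, -, -, h, -⟩ := H10.exists_sylow_two_SL_two hF
  obtain ⟨k, rfl⟩ : ∃ l, k = l + 1 := ⟨k - 1, by omega⟩
  obtain ⟨e⟩ := h Q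
  obtain ⟨a, b, h1, h3, h4, h5, h6⟩ := exists_gens_of_quaternion (by positivity) e
  have h7 : a ^ 2 ^ (k + 1) = -1 := by
    refine (mem_center_iff'.1 (mem_center_of_mul_self_eq_one h2 ?_)).resolve_left
      (pow_ne_one_of_lt_orderOf (by positivity) (by have := Nat.two_pow_pos (k + 1); omega))
    rw [← pow_add, ← two_mul, ← h1, pow_orderOf_eq_one]
  exact ⟨k, a, b, h2, by rw [h1]; ring, h3.trans h7, by rw [← pow_add, ← two_mul, ← pow_succ', h7],
    h4, h5, h6⟩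

theorem ne_neg (h2 : (2 : F) ≠ 0) (x : SL(2, F)) : x ≠ -x := fun h =>
  neg_one_ne_one h2 (mul_left_cancel (a := x) (by rw [mul_neg_one, mul_one, ← h]))

namespace GQ

variable {k : ℕ} {a b : SL(2, F)} (h : GQ Q k a b)
include h

theorem a_mem : a ∈ Q := (h.mem a).2 ⟨1, by simp⟩

theorem b_mem : b ∈ Q := (h.mem b).2 ⟨0, by simp⟩

theorem neg_mem : -1 ∈ Q := h.bb ▸ Q.mul_mem h.b_mem h.b_mem

theorem le_of {K : Subgroup SL(2, F)} (ha : a ∈ K) (hb : b ∈ K) : Q ≤ K := fun g hg => by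
  obtain ⟨i, rfl | rfl⟩ := (h.mem g).1 hg
  exacts [zpow_mem ha i, mul_mem (zpow_mem ha i) hb]

theorem not_comm : a * b ≠ b * a := fun e => by
  have h1 := h.conj
  rw [← e, mul_inv_cancel_right, eq_inv_iff_mul_eq_one, ← pow_two] at h1
  have := Nat.le_of_dvd two_pos (orderOf_dvd_of_pow_eq_one h1)
  have := Nat.two_pow_pos k
  rw [h.ord] at *
  omega

theorem pm {x : SL(2, F)} (ha : a * x = x * a) (hb : b * x = x * b) : x = 1 ∨ x = -1 :=
  mem_center_iff'.1 (by_contra fun hx => h.not_comm (commute_of_mem_centralizer hx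
    (mem_centralizer_singleton_iff.2 ha) (mem_centralizer_singleton_iff.2 hb)))

theorem sq (i : ℤ) : a ^ i * b * (a ^ i * b) = -1 := by
  calc a ^ i * b * (a ^ i * b) = a ^ i * (b * a * b⁻¹) ^ i * (b * b) := by rw [conj_zpow]; group
    _ = -1 := by rw [h.conj, h.bb]; simp

theorem of_mem_map {g : Sp F} (hg : pr F g ∈ (wr Q).map (pr F)) : g ∈ wr Q := by
  obtain ⟨s, hs, e⟩ := hg
  rcases pr_eq e.symm with rfl | rfl
  exacts [hs, mul_mem (io_mem.2 ⟨h.neg_mem, h.neg_mem⟩) hs]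

theorem central {s : Sp F} (hs : s ∈ wr Q) (hc : ∀ u ∈ wr Q, pr F u * pr F s = pr F s * pr F u) :
    s ∈ center (Sp F) ∨ s = io F (-1, 1) ∨ s = io F (1, -1) := by
  have key := fun u hu => pr_eq ((map_mul _ _ _).trans ((hc u hu).trans (map_mul _ _ _).symm))
  obtain ⟨x, hx, y, hy, rfl | rfl⟩ := hs
  · have e1 : ∀ c ∈ Q, c * x = x * c := fun c hc => by
      rcases key _ (io_mem.2 ⟨hc, Q.one_mem⟩) with e | e <;> simp only [io_mul, io_eq] at e
      · exact e.1
      · exact absurd (by simpa using e.2) (ne_neg h.two y)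
    have e2 : ∀ c ∈ Q, c * y = y * c := fun c hc => by
      rcases key _ (io_mem.2 ⟨Q.one_mem, hc⟩) with e | e <;> simp only [io_mul, io_eq] at e
      · exact e.2
      · exact absurd (by simpa using e.1) (ne_neg h.two x)
    rw [mem_center_iff]
    rcases h.pm (e1 a h.a_mem) (e1 b h.b_mem) with rfl | rfl <;>
      rcases h.pm (e2 a h.a_mem) (e2 b h.b_mem) with rfl | rfl <;> simp [Prod.mk_one_one]
  · refine absurd ?_ h.not_comm
    rcases key _ (io_mem.2 ⟨h.a_mem, Q.one_mem⟩) with e | e <;>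
      simp only [← mul_assoc, io_mul, io_tt_io, mul_left_inj, io_eq] at e
    · rw [show a = 1 by simpa using e.1]; simp
    · rw [show a = -1 from mul_right_cancel (b := x) (by simpa using e.1)]; simp

variable [Finite F]

theorem sc (hS : IsPGroup 2 ((wr Q).map (pr F))) : SC ((wr Q).map (pr F)) := by
  refine sc_of_central hS fun T hT y hy y1 _ yc => ?_
  obtain ⟨s, hs, rfl⟩ := hT.1 hy
  have hz : pr F (io F (-1, 1)) ∈ T := by
    rcases h.central hs fun u hu => yc _ ⟨u, hu, rfl⟩ with e | rfl | rfl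
    · exact absurd ((QuotientGroup.eq_one_iff _).2 e) y1
    · exact hy
    · rwa [← pr_m, io_mul, mul_one, neg_mul_neg, mul_one] at hy
  have cj : ∀ {x : Sp F} (g y : Sp F), pr F x ∈ T → y ∈ wr Q → g * x = y * g → pr F y ∈ T :=
    fun g y hx hy e => by
      have := hT.2 _ hx (pr F g)
      rw [← map_inv, ← map_mul, ← map_mul, e, mul_inv_cancel_right] at this
      exact this ⟨y, hy, rfl⟩
  have ht : pr F (tt F) ∈ T := by
    rw [← pr_m]
    exact cj _ _ hz (mul_mem (io_mem.2 ⟨h.neg_mem, h.neg_mem⟩) tt_mem)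
      (hd_z (h := !![2⁻¹, 0; 0, 1]) (by simp [h.two]))
  have h4 : ∀ y ∈ Q, y * y = -1 → pr F (io F (b, y)) ∈ T := fun y hy y2 => by
    have e1 := cj (io F (b, 1)) (io F (b, b⁻¹) * tt F) ht
      (mul_mem (io_mem.2 ⟨h.b_mem, inv_mem h.b_mem⟩) tt_mem) (by simp [io_tt_io])
    rw [map_mul, mul_mem_cancel_right ht] at e1
    have t0 : ∀ {x : SL(2, F)}, x * x = -1 → tr x = 0 := fun {x} hx =>
      (mem_center_or_tr_eq_zero_of_sq (hx ▸ neg_one_mem_center)).resolve_left fun h1 => by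
        rcases mem_center_iff'.1 h1 with rfl | rfl <;>
          exact neg_one_ne_one h.two (by simpa using hx.symm)
    obtain ⟨c, hc⟩ := isConj_iff.1 (isConj_of_tr_eq (g := b⁻¹) (h := y) (by
      rw [tr_inv, t0 h.bb, show (4 : F) = 2 * 2 by norm_num]
      simpa using h.two) (by rw [tr_inv, t0 h.bb, t0 y2]))
    exact cj (io F (1, c)) _ e1 (io_mem.2 ⟨h.b_mem, hy⟩) (by simp [io_mul, ← hc])
  have h5 : ∀ x ∈ Q, ∀ y ∈ Q, x * x = -1 → y * y = -1 → pr F (io F (1, x * y⁻¹)) ∈ T :=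
    fun x hx y hy x2 y2 => by
      have := T.mul_mem (h4 x hx x2) (T.inv_mem (h4 y hy y2))
      rwa [← map_inv, ← map_mul, io_inv, io_mul, mul_inv_cancel] at this
  have h6 : Q ≤ T.comap (((pr F).comp (io F)).comp (MonoidHom.inr _ _)) := by
    refine h.le_of ?_ ?_
    · simpa using h5 _ (mul_mem h.a_mem h.b_mem) _ h.b_mem (by simpa using h.sq 1) h.bb
    · have := h5 _ (mul_mem (pow_mem h.a_mem (2 ^ k)) h.b_mem) _ (inv_mem (pow_mem h.a_mem (2 ^ k)))
        (by simpa only [zpow_natCast] using h.sq (2 ^ k : ℕ))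
        (by rw [← _root_.mul_inv_rev, h.ww]; simp)
      rwa [inv_inv, show a ^ 2 ^ k * b * a ^ 2 ^ k = b by
        rw [mul_assoc, mul_inv_eq_iff_eq_mul.1 (show b * a ^ 2 ^ k * b⁻¹ = (a ^ 2 ^ k)⁻¹ by
          rw [← conj_pow, h.conj, inv_pow]), mul_inv_cancel_left]] at this
  have h7 : ∀ x ∈ Q, ∀ y ∈ Q, pr F (io F (x, y)) ∈ T := fun x hx y hy => by
    have := T.mul_mem (cj (tt F) _ (h6 hx) (io_mem.2 ⟨hx, Q.one_mem⟩) (tt_io 1 x))
      (show pr F (io F (1, y)) ∈ T from h6 hy)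
    rwa [← map_mul, io_mul, mul_one, one_mul] at this
  rintro _ ⟨_, ⟨x, hx, y, hy, rfl | rfl⟩, rfl⟩
  exacts [h7 x hx y hy, map_mul (pr F) _ _ ▸ mul_mem (h7 x hx y hy) ht]

theorem normalizer_le (hk : k ≠ 0) {P : Sylow 2 SL(2, F)} (hP : Q = P) :
    normalizer (Q : Set SL(2, F)) ≤ Q := by
  subst hP
  intro g hg
  obtain ⟨u, s, hu, hs, rfl, ⟨l, hl⟩, h2⟩ := H77.exists_p_part Nat.prime_two g
  have hn := zpowers_le.2 hg
  refine mul_mem (H9.mem_sylow_of_mem_normalizer P (hl ▸ pow_orderOf_eq_one u) (hn hu)) ?_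
  have ho : Odd (orderOf s) := Nat.odd_iff.2 (Nat.two_dvd_ne_zero.1 h2)
  have ha : a ^ 2 ^ (k + 2) = 1 := by
    rw [show 2 ^ (k + 2) = orderOf a by rw [h.ord]; ring, pow_orderOf_eq_one]
  have e1 : MulAut.conj s a = a := by
    refine aut_eq_of_mem_zpowers ho (conj_pow_orderOf s) (k + 2) ha ?_
    obtain ⟨i, e | e⟩ := (h.mem _).1 ((mem_normalizer_iff.1 (hn hs) a).1 h.a_mem)
    · exact ⟨i, e.symm⟩
    · have h3 : (s * a * s⁻¹) ^ 4 = 1 := by
        rw [e, show 4 = 2 * 2 by rfl, pow_mul, pow_two (_ * b), h.sq]; simp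
      have := Nat.le_of_dvd four_pos (orderOf_dvd_of_pow_eq_one h3)
      rw [H9.orderOf_conj, h.ord] at this
      have := Nat.one_lt_two_pow hk
      omega
  have e2 : MulAut.conj s b = b := by
    obtain ⟨i, e | e⟩ := (h.mem _).1 ((mem_normalizer_iff.1 (hn hs) b).1 h.b_mem)
    · exact absurd ⟨i, (MulAut.conj s).injective (by rw [map_zpow, e1]; exact e.symm)⟩ h.notMem
    · refine aut_eq_of_mul ho (conj_pow_orderOf s) (c := a ^ (-i)) (k := k + 2) ?_
        (by rw [map_zpow, e1]) (by rw [← zpow_natCast, zpow_comm, zpow_natCast, ha, _root_.one_zpow])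
      rw [MulAut.conj_apply, e, ← mul_inv_eq_iff_eq_mul.1 (show b * a ^ (-i) * b⁻¹ = a ^ i by
        rw [← conj_zpow, h.conj]; simp)]
  rcases h.pm (mul_inv_eq_iff_eq_mul.1 e1).symm (mul_inv_eq_iff_eq_mul.1 e2).symm with rfl | rfl
  exacts [one_mem _, h.neg_mem]

omit h in
theorem q8 (h : GQ Q 0 a b) : Q8 Q a b :=
  ⟨by simpa using h.ord, by simpa [h.bb] using h.ww.symm, h.conj, h.notMem, h.mem⟩

omit h [Finite F] in
theorem sup_le (h : GQ Q 0 a b) : Q ⊔ centralizer (Q : Set SL(2, F)) ≤ Q :=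
  _root_.sup_le le_rfl fun x hx => by
    rcases h.pm (hx a h.a_mem) (hx b h.b_mem) with rfl | rfl
    exacts [one_mem _, h.neg_mem]

end GQ

variable {a b : SL(2, F)}

variable (a b) in
/-- the image of the extraspecial group of order `32` -/
def EE : Subgroup (Sp F ⧸ center (Sp F)) :=
  closure {pr F (io F (a, a)), pr F (io F (b, b)), pr F (io F (-1, 1)), pr F (tt F)}

theorem z_mem_EE : pr F (io F (-1, 1)) ∈ EE a b := subset_closure (by simp)

theorem tt_mem_EE : pr F (tt F) ∈ EE a b := subset_closure (by simp)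

theorem GQ.diag_mem {k : ℕ} (h : GQ Q k a b) {x : SL(2, F)} (hx : x ∈ Q) :
    pr F (io F (x, x)) ∈ EE a b :=
  h.le_of (K := (EE a b).comap (((pr F).comp (io F)).comp ((MonoidHom.id _).prod (MonoidHom.id _))))
    (subset_closure (by simp)) (subset_closure (by simp)) hx

theorem GQ.EE_le {k : ℕ} (h : GQ Q k a b) : EE a b ≤ (wr Q).map (pr F) := by
  rw [EE, closure_le]
  rintro _ (rfl | rfl | rfl | rfl)
  exacts [⟨_, io_mem.2 ⟨h.a_mem, h.a_mem⟩, rfl⟩, ⟨_, io_mem.2 ⟨h.b_mem, h.b_mem⟩, rfl⟩,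
    ⟨_, io_mem.2 ⟨h.neg_mem, Q.one_mem⟩, rfl⟩, ⟨_, tt_mem, rfl⟩]

theorem GQ.pc [Finite F] (h : GQ Q 0 a b) : PC 2 (EE a b) := by
  have ai : a⁻¹ = -a := inv_eq_of_mul_eq_one_right (by simpa [neg_eq_iff_eq_neg] using h.ww)
  have bi : b⁻¹ = -b := inv_eq_of_mul_eq_one_right (by simp [h.bb])
  have key : ∀ y, (∀ x ∈ EE a b, pr F y * x = x * pr F y) →
      y * io F (-1, 1) = io F (-1, 1) * y → pr F y ∈ EE a b := fun y hy e => by
    obtain ⟨u, v, rfl⟩ := mem_range_io h.two e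
    have cm := fun x hx => pr_eq ((map_mul _ _ _).trans ((hy (pr F x) hx).trans (map_mul _ _ _).symm))
    have hu : u ∈ Q := by
      refine h.sup_le (h.q8.mem_sup_centralizer ?_ ?_)
      · rcases cm _ (h.diag_mem h.a_mem) with e | e <;> simp only [io_mul, io_eq] at e
        · exact Or.inl (mul_inv_eq_iff_eq_mul.2 e.1)
        · exact Or.inr (mul_inv_eq_iff_eq_mul.2 (by simpa [ai] using e.1))
      · rcases cm _ (h.diag_mem h.b_mem) with e | e <;> simp only [io_mul, io_eq] at e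
        · exact Or.inl (mul_inv_eq_iff_eq_mul.2 e.1)
        · exact Or.inr (mul_inv_eq_iff_eq_mul.2 (by simpa [bi] using e.1))
    rcases cm _ tt_mem_EE with e | e <;>
      simp only [tt_io, ← mul_assoc, io_mul, mul_left_inj, io_eq] at e
    · rw [e.2]; exact h.diag_mem hu
    · have := mul_mem (z_mem_EE (a := a) (b := b)) (h.diag_mem hu)
      rw [← map_mul, ← pr_m, io_mul, io_mul] at this
      rw [e.2]
      simpa using this
  intro y hy _
  obtain ⟨y, rfl⟩ := QuotientGroup.mk'_surjective _ y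
  rcases pr_eq ((map_mul _ _ _).trans ((hy _ z_mem_EE).trans (map_mul _ _ _).symm)) with e | e
  · exact key y hy e
  · refine (mul_mem_cancel_left tt_mem_EE).1 (map_mul (pr F) _ _ ▸ key (tt F * y) ?_ ?_)
    · have : EE a b ≤ centralizer {pr F (tt F)} := by
        rw [EE, closure_le]
        rintro _ (rfl | rfl | rfl | rfl) <;>
          simp only [SetLike.mem_coe, mem_centralizer_singleton_iff, ← map_mul, tt_io]
        rw [← pr_m, ← mul_assoc, io_mul]
        simp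
      intro x hx
      rw [map_mul, mul_assoc, hy x hx, ← mul_assoc, ← mem_centralizer_singleton_iff.1 (this hx),
        mul_assoc]
    · rw [mul_assoc, e, ← mul_assoc (io F _), io_mul, ← mul_assoc, tt_io, mul_assoc]
      simp

theorem GQ.hd_mem (h : GQ Q 0 a b) {u : M2 F} (e : 2 * u.det = 1) (hu : u * u + u * u = -1)
    {x y : SL(2, F)} (hx : x ∈ Q) (hy : y ∈ Q) (ha : u * a.1 = x.1 * u) (hb : u * b.1 = y.1 * u) :
    pr F (hd u e) ∈ Opp 2 (EE a b) := by
  refine mem_opp (fun x hx => ?_) ⟨1, ?_⟩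
  · refine (?_ : EE a b ≤ (EE a b).comap (MulAut.conj (pr F (hd u e))).toMonoidHom) hx
    refine (closure_le _).2 ?_
    rintro _ (rfl | rfl | rfl | rfl) <;>
      simp only [SetLike.mem_coe, mem_comap, MulEquiv.coe_toMonoidHom, MulAut.conj_apply,
        ← map_inv, ← map_mul]
    · rw [hd_io e ha, mul_inv_cancel_right]; exact h.diag_mem ‹_›
    · rw [hd_io e hb, mul_inv_cancel_right]; exact h.diag_mem ‹_›
    · rw [hd_z, mul_inv_cancel_right, pr_m]; exact tt_mem_EE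
    · rw [hd_tt, mul_inv_cancel_right, ← pr_m, io_mul]; simpa using z_mem_EE
  · rw [pow_one, pow_two, ← map_mul, hd_hd e e (x := -1) hu, ← mul_one (io F _), pr_m, map_one]

theorem GQ.exists_omega (h : GQ Q 0 a b) : ∃ w, w * a = -b * w ∧ w * b = -(a * b) * w ∧
    pr F (io F (w, w)) ∈ Opp 2 (EE a b) := by
  have h2 := h.two
  have aa : a * a = -1 := by simpa using h.ww
  have ba : b * a = -(a * b) := by
    rw [mul_inv_eq_iff_eq_mul.1 h.conj, inv_eq_of_mul_eq_one_right (b := -a) (by simp [aa]), neg_mul]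
  have cc : a * b * (a * b) = -1 := by simpa using h.sq 1
  have cb : a * b * b = -(b * (a * b)) := by rw [← mul_assoc b, ba]; simp
  have e := det_half h2 aa h.bb ba
  have e' := det_half h2 h.bb cc cb
  have A : a.1 * a.1 = -1 := congrArg Subtype.val aa
  have B : b.1 * b.1 = -1 := congrArg Subtype.val h.bb
  have C : b.1 * a.1 = -(a.1 * b.1) := congrArg Subtype.val ba
  have A' : ∀ x, a.1 * (a.1 * x) = -x := fun x => by rw [← mul_assoc, A]; simp
  have B' : ∀ x, b.1 * (b.1 * x) = -x := fun x => by rw [← mul_assoc, B]; simp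
  have C' : ∀ x, b.1 * (a.1 * x) = -(a.1 * (b.1 * x)) := fun x => by
    rw [← mul_assoc, C]; simp [mul_assoc]
  have hf : (2 : F)⁻¹ * 2⁻¹ * 4 = 1 := by field_simp; norm_num
  have m1 := h.hd_mem e ?_ h.b_mem h.a_mem ?_ ?_
  have m2 := h.hd_mem e' ?_ (mul_mem h.neg_mem h.a_mem) (mul_mem h.a_mem h.b_mem) ?_ ?_
  · set u := (2 : F)⁻¹ • (a.1 + b.1) with hu
    set v := (2 : F)⁻¹ • (b.1 + (a * b).1) with hv
    refine ⟨⟨u * v + u * v, ?_⟩, Subtype.ext ?_, Subtype.ext ?_, ?_⟩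
    · rw [← two_smul F, det_smul, det_mul, Fintype.card_fin]
      linear_combination 2 * v.det * e + e'
    · change (u * v + u * v) * a.1 = -b.1 * (u * v + u * v)
      simp [hu, hv, mul_add, add_mul, mul_assoc, A, B, C, A', B', C']
      module
    · change (u * v + u * v) * b.1 = -(a.1 * b.1) * (u * v + u * v)
      simp [hu, hv, mul_add, add_mul, mul_assoc, A, B, C, A', B', C']
      module
    · exact hd_hd e e' (x := ⟨u * v + u * v, _⟩) rfl ▸ map_mul (pr F) _ _ ▸ mul_mem m1 m2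
  all_goals simp [mul_add, add_mul, mul_assoc, A, B, C, A', B', C', smul_smul]
  all_goals first
    | exact add_comm _ _
    | (match_scalars; linear_combination -hf)

theorem GQ.top [Finite F] {P : Sylow 2 SL(2, F)} {k : ℕ} (h : GQ (P : Subgroup SL(2, F)) k a b) :
    Top 2 ((wr (P : Subgroup SL(2, F))).map (pr F)) := by
  intro M hM g hg
  set Q := (P : Subgroup SL(2, F))
  let K := (hM.sub le_rfl).comap (((pr F).comp (io F)).comp ((MonoidHom.id _).prod (MonoidHom.id _)))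
  have hQ : Q ≤ K := fun x hx => hM.le_sub ⟨_, io_mem.2 ⟨hx, hx⟩, rfl⟩
  have hN : normalizer (Q : Set SL(2, F)) ≤ K := by
    by_cases hk : k = 0
    swap
    · exact (h.normalizer_le hk rfl).trans hQ
    subst hk
    obtain ⟨w, w1, w2, w3⟩ := h.exists_omega
    have nb : ∀ {x}, x ∈ Q → -x ∈ Q := fun hx => by simpa using mul_mem h.neg_mem hx
    have wQ : ∀ x ∈ Q, w * x * w⁻¹ ∈ Q := h.le_of (K := Q.comap (MulAut.conj w).toMonoidHom)
      (by change w * a * w⁻¹ ∈ Q; rw [w1, mul_inv_cancel_right]; exact nb h.b_mem)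
      (by change w * b * w⁻¹ ∈ Q; rw [w2, mul_inv_cancel_right]; exact nb (mul_mem h.a_mem h.b_mem))
    have wK : w ∈ K := hM.mem_sub_of_opp (g := pr F (io F (w, w))) h.EE_le h.pc w3 (by
      rintro _ ⟨_, ⟨x, hx, y, hy, rfl | rfl⟩, rfl⟩ <;> rw [← map_inv, ← map_mul, ← map_mul, io_inv]
      · exact ⟨_, by rw [io_mul, io_mul]; exact io_mem.2 ⟨wQ x hx, wQ y hy⟩, rfl⟩
      · exact ⟨_, by
          rw [← mul_assoc, io_mul, io_tt_io]
          exact mul_mem (io_mem.2 ⟨wQ x hx, wQ y hy⟩) tt_mem, rfl⟩)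
    have wN : w ∉ Q := fun hw => by
      have := h.q8.conj_cases hw h.a_mem
      rw [w1, mul_inv_cancel_right] at this
      refine h.notMem ((mul_mem_cancel_left (x := a * a) (mul_mem (mem_zpowers a) (mem_zpowers a))).1 ?_)
      rw [show a * a = -1 by simpa using h.ww, neg_one_mul]
      rcases this with e | e <;> simp [e]
    have d6 := h.q8.relIndex_dvd_six le_rfl
    rw [le_antisymm h.sup_le le_sup_left] at d6
    have hle : Q ≤ normalizer (Q : Set SL(2, F)) := le_normalizer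
    have d3 : Q.relIndex (normalizer (Q : Set SL(2, F))) ∣ 3 :=
      Nat.Coprime.dvd_of_dvd_mul_left (((Nat.Prime.coprime_iff_not_dvd Nat.prime_two).2 fun h2 =>
        P.not_dvd_index (h2.trans (relIndex_dvd_index_of_le hle))).symm) d6
    have hm := relIndex_mul_relIndex Q (K ⊓ normalizer (Q : Set SL(2, F))) _ (le_inf hQ hle)
      inf_le_right
    have h1 : Q.relIndex (K ⊓ normalizer (Q : Set SL(2, F))) ≠ 1 := fun e =>
      wN (relIndex_eq_one.1 e ⟨wK, H90.mem_normalizer_of_conj_mem wQ⟩)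
    refine (relIndex_eq_one.1 ?_).trans (inf_le_left (b := normalizer (Q : Set SL(2, F))))
    rw [← hm] at d3
    rw [((Nat.dvd_prime Nat.prime_three).1 (dvd_of_mul_right_dvd d3)).resolve_left h1] at d3
    exact Nat.dvd_one.1 (Nat.dvd_of_mul_dvd_mul_left three_pos d3)
  have key : ∀ g ∈ normalizer (wr Q : Set (Sp F)), g * io F (-1, 1) = io F (-1, 1) * g →
      pr F g ∈ hM.sub le_rfl := fun g hg e => by
    obtain ⟨u, v, rfl⟩ := mem_range_io h.two e
    have e1 := (mem_normalizer_iff.1 hg _).1 tt_mem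
    rw [io_inv, io_tt_io, mul_mem_cancel_right tt_mem, io_mem] at e1
    rw [show io F (u, v) = io F (1, v * u⁻¹) * io F (u, u) by simp [io_mul], map_mul]
    refine mul_mem (hM.le_sub ⟨_, io_mem.2 ⟨one_mem _, e1.2⟩, rfl⟩)
      (hN (H90.mem_normalizer_of_conj_mem fun x hx => ?_))
    have := (mem_normalizer_iff.1 hg _).1 (io_mem.2 ⟨hx, Q.one_mem⟩)
    rw [io_inv, io_mul, io_mul, io_mem] at this
    exact this.1
  obtain ⟨g, rfl⟩ := QuotientGroup.mk'_surjective _ g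
  have hn : g ∈ normalizer (wr Q : Set (Sp F)) := H90.mem_normalizer_of_conj_mem fun x hx =>
    h.of_mem_map (by simpa using hg _ ⟨x, hx, rfl⟩)
  have hz : io F (-1, 1) ∈ wr Q := io_mem.2 ⟨h.neg_mem, Q.one_mem⟩
  have zc : ∀ u ∈ wr Q, pr F u * pr F (io F (-1, 1)) = pr F (io F (-1, 1)) * pr F u := by
    rintro _ ⟨x, hx, y, hy, rfl | rfl⟩ <;> rw [← map_mul (pr F), ← map_mul (pr F)]
    · rw [io_mul, io_mul]; simp
    · rw [← pr_m, io_tt_io, ← mul_assoc, ← mul_assoc, io_mul, io_mul]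
      simp
  refine And.right (?_ : pr F g ∈ hM.sub le_rfl)
  rcases h.central ((mem_normalizer_iff.1 hn _).1 hz) fun u hu => by
    have := zc _ ((mem_normalizer_iff''.1 hn u).1 hu)
    simp only [map_mul, map_inv] at this ⊢
    calc _ = pr F g * ((pr F g)⁻¹ * pr F u * pr F g * pr F (io F (-1, 1))) * (pr F g)⁻¹ := by group
      _ = _ := by rw [this]; group with e | e | e
  · have e1 := Subgroup.mem_center_iff.1 e g
    rw [inv_mul_cancel_right, mul_left_cancel_iff] at e1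
    rw [e1, mem_center_iff, ← map_one (io F), ← Prod.mk_one_one, io_eq, io_eq] at e
    exact absurd (e.elim (·.1) (·.2.symm)) (neg_one_ne_one h.two)
  · exact key g hn (mul_inv_eq_iff_eq_mul.1 e)
  · refine (mul_mem_cancel_left (hM.le_sub ⟨_, tt_mem, rfl⟩)).1 (map_mul (pr F) _ _ ▸
      key (tt F * g) (mul_mem (le_normalizer tt_mem) hn) ?_)
    rw [mul_assoc, mul_inv_eq_iff_eq_mul.1 e, ← mul_assoc, tt_io, mul_assoc]

theorem crit [Finite F] (hF : Odd (Nat.card F)) :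
    ∃ S : Sylow 2 (Sp F ⧸ center (Sp F)), Crit 2 S.toSubgroup := by
  obtain ⟨P⟩ : Nonempty (Sylow 2 SL(2, F)) := inferInstance
  obtain ⟨k, a, b, h⟩ := exists_gq hF P
  obtain ⟨m, hm, e⟩ := card_Sp hF
  obtain ⟨n, hn⟩ := P.isPGroup'.exists_card_eq
  obtain ⟨S, hS⟩ := exists_sylow (p := 2) (S := wr (P : Subgroup SL(2, F))) (n := 2 * n + 1)
    (m := (P : Subgroup SL(2, F)).index ^ 2 * m) (by rw [card_wr, hn]; ring)
    (by rw [e, ← card_mul_index (P : Subgroup SL(2, F)), hn]; ring)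
    (((Nat.odd_iff.2 (Nat.two_dvd_ne_zero.1 P.not_dvd_index)).pow.mul hm).not_two_dvd_nat)
  refine ⟨S.mapSurjective (QuotientGroup.mk'_surjective _), ?_⟩
  have hp := (hS ▸ S.isPGroup').map (pr F)
  rw [Sylow.coe_mapSurjective, hS]
  refine ⟨fun h0 => ?_, h.sc hp, h.top⟩
  have : pr F (tt F) ∈ (wr (P : Subgroup SL(2, F))).map (pr F) := ⟨_, tt_mem, rfl⟩
  rw [h0, mem_bot] at this
  rcases mem_center_iff.1 ((QuotientGroup.eq_one_iff _).1 this) with e | e
  exacts [io_ne_tt 1 ((map_one _).trans e.symm), io_ne_tt _ e.symm]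

end H55.Sp4
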