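import Cfsg.Agent.Lib.Sp.Order
import Cfsg.Agent.Lib.GL.SylowSL2

/-!
The subgroup `SL₂ ≀ 2` of `Sp₄` in block form.
-/

set_option autoImplicit false
set_option linter.unusedSectionVars false
open Matrix MatrixGroups

namespace H55.Sp4

variable {F : Type*} [Field F]

/-- two by two matrices -/
abbrev M2 (F : Type*) := Matrix (Fin 2) (Fin 2) F

/-- the symplectic group in dimension four -/
abbrev Sp (F : Type*) [Field F] := symplecticGroup (Fin 2) F

/-- block matrices along the two hyperbolic planes -/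
def bk (a b c d : M2 F) : Matrix (Fin 2 ⊕ Fin 2) (Fin 2 ⊕ Fin 2) F :=
  fromBlocks !![a 0 0, b 0 0; c 0 0, d 0 0] !![a 0 1, b 0 1; c 0 1, d 0 1]
    !![a 1 0, b 1 0; c 1 0, d 1 0] !![a 1 1, b 1 1; c 1 1, d 1 1]

theorem bk_mul (a b c d a' b' c' d' : M2 F) : bk a b c d * bk a' b' c' d' =
    bk (a * a' + b * c') (a * b' + b * d') (c * a' + d * c') (c * b' + d * d') := by
  ext (i | i) (j | j) <;> fin_cases i <;> fin_cases j <;>
    simp [bk, Matrix.mul_apply, Fintype.sum_sum_type, Fin.sum_univ_two] <;> ring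

theorem bk_inj {a b c d a' b' c' d' : M2 F} :
    bk a b c d = bk a' b' c' d' ↔ a = a' ∧ b = b' ∧ c = c' ∧ d = d' := by
  refine ⟨fun h => ?_, by rintro ⟨rfl, rfl, rfl, rfl⟩; rfl⟩
  simp only [bk, ← Matrix.ext_iff, Fin.forall_fin_two] at h ⊢
  simp at h
  tauto

theorem bk_surj (A : Matrix (Fin 2 ⊕ Fin 2) (Fin 2 ⊕ Fin 2) F) : ∃ a b c d, A = bk a b c d :=
  ⟨!![A (.inl 0) (.inl 0), A (.inl 0) (.inr 0); A (.inr 0) (.inl 0), A (.inr 0) (.inr 0)],
    !![A (.inl 0) (.inl 1), A (.inl 0) (.inr 1); A (.inr 0) (.inl 1), A (.inr 0) (.inr 1)],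
    !![A (.inl 1) (.inl 0), A (.inl 1) (.inr 0); A (.inr 1) (.inl 0), A (.inr 1) (.inr 0)],
    !![A (.inl 1) (.inl 1), A (.inl 1) (.inr 1); A (.inr 1) (.inl 1), A (.inr 1) (.inr 1)], by
    ext (i | i) (j | j) <;> fin_cases i <;> fin_cases j <;> simp [bk]⟩

theorem bk_smul (s : F) : bk (s • (1 : M2 F)) 0 0 (s • (1 : M2 F)) = s • (1 : Matrix _ _ F) := by
  ext (i | i) (j | j) <;> fin_cases i <;> fin_cases j <;> simp [bk]

theorem bk_one : bk (1 : M2 F) 0 0 1 = 1 := by simpa using bk_smul (1 : F)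

theorem bk_transpose (a b c d : M2 F) : (bk a b c d)ᵀ = bk aᵀ cᵀ bᵀ dᵀ := by
  ext (i | i) (j | j) <;> fin_cases i <;> fin_cases j <;> simp [bk]

theorem bk_J : J (Fin 2) F = bk !![0, -1; 1, 0] 0 0 !![0, -1; 1, 0] := by
  ext (i | i) (j | j) <;> fin_cases i <;> fin_cases j <;> simp [bk, J]

theorem mul_j (a : M2 F) : a * !![0, -1; 1, 0] * aᵀ = a.det • !![0, -1; 1, 0] := by
  ext i j
  fin_cases i <;> fin_cases j <;> simp [Matrix.mul_apply, Fin.sum_univ_two, det_fin_two] <;> ring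

/-- the stabiliser of the two planes -/
def io (F : Type*) [Field F] : SL(2, F) × SL(2, F) →* Sp F where
  toFun x := ⟨bk x.1.1 0 0 x.2.1, by
    simp [SymplecticGroup.mem_iff, bk_J, bk_transpose, bk_mul, mul_j]⟩
  map_one' := Subtype.ext bk_one
  map_mul' x y := Subtype.ext (by
    change bk _ _ _ _ = bk _ _ _ _ * bk _ _ _ _
    simp [bk_mul])

/-- the swap of the two planes -/
def tt (F : Type*) [Field F] : Sp F :=
  ⟨bk 0 1 1 0, by simp [SymplecticGroup.mem_iff, bk_J, bk_transpose, bk_mul]⟩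

/-- tensor products with the Hadamard matrix -/
def hd (h : M2 F) (e : 2 * h.det = 1) : Sp F := ⟨bk h h h (-h), by
  simp only [SymplecticGroup.mem_iff, bk_J, bk_transpose, bk_mul, Matrix.mul_zero, add_zero,
    zero_add, transpose_neg, Matrix.neg_mul, Matrix.mul_neg, mul_j, add_neg_cancel, neg_neg,
    ← add_smul]
  rw [← two_mul, e, one_smul]⟩

theorem ext' {x y : Sp F} (h : x.1 = y.1) : x = y := Subtype.ext h

theorem coe_mul (x y : Sp F) : (x * y).1 = x.1 * y.1 := rfl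

theorem io_val (x y : SL(2, F)) : (io F (x, y)).1 = bk x.1 0 0 y.1 := rfl

theorem tt_val : (tt F).1 = bk 0 1 1 0 := rfl

theorem hd_val (h : M2 F) (e : 2 * h.det = 1) : (hd h e).1 = bk h h h (-h) := rfl

theorem io_inj : Function.Injective (io F) := fun _ _ h =>
  have := bk_inj.1 (congrArg Subtype.val h)
  Prod.ext (Subtype.ext this.1) (Subtype.ext this.2.2.2)

theorem tt_tt : tt F * tt F = 1 := ext' (by simp [tt_val, bk_mul, bk_one])

theorem tt_io (x y : SL(2, F)) : tt F * io F (x, y) = io F (y, x) * tt F :=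
  ext' (by simp [tt_val, io_val, bk_mul])

theorem io_ne_tt (x : SL(2, F) × SL(2, F)) : io F x ≠ tt F := fun h =>
  zero_ne_one (bk_inj.1 (congrArg Subtype.val h)).2.1

theorem mem_center_iff {g : Sp F} : g ∈ Subgroup.center (Sp F) ↔ g = 1 ∨ g = io F (-1, -1) := by
  rw [H11.Sp.mem_center_iff]
  constructor
  · rintro ⟨a, ha⟩
    have h := SymplecticGroup.mem_iff.1 g.2
    rw [ha, ← bk_smul, bk_J, bk_transpose, bk_mul, bk_mul, bk_inj] at h
    have := congrFun (congrFun h.1 1) 0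
    simp at this
    rcases mul_self_eq_one_iff.1 this with rfl | rfl
    · exact Or.inl (ext' (by simpa using ha))
    · exact Or.inr (ext' (by rw [ha, ← bk_smul]; simp [io_val]))
  · rintro (rfl | rfl)
    · exact ⟨1, by simp⟩
    · exact ⟨-1, by rw [← bk_smul]; simp [io_val]⟩

theorem mem_range_io (h2 : (2 : F) ≠ 0) {g : Sp F} (h : g * io F (-1, 1) = io F (-1, 1) * g) :
    ∃ x y, g = io F (x, y) := by
  obtain ⟨a, b, c, d, e⟩ := bk_surj g.1
  have h1 := congrArg Subtype.val h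
  have h3 := SymplecticGroup.mem_iff.1 g.2
  simp only [coe_mul, e, io_val, bk_mul, bk_inj] at h1
  obtain rfl : b = 0 := (smul_eq_zero_iff_right h2).1 (by
    rw [two_smul]; exact add_eq_zero_iff_eq_neg.2 (by simpa using h1.2.1))
  obtain rfl : c = 0 := (smul_eq_zero_iff_right h2).1 (by
    rw [two_smul]; exact add_eq_zero_iff_eq_neg.2 (by simpa using h1.2.2.1.symm))
  simp only [e, bk_J, bk_transpose, bk_mul, Matrix.mul_zero, add_zero, zero_add, transpose_zero,
    Matrix.zero_mul, mul_j, bk_inj] at h3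
  exact ⟨⟨a, by simpa using congrFun (congrFun h3.1 1) 0⟩,
    ⟨d, by simpa using congrFun (congrFun h3.2.2.2 1) 0⟩, ext' e⟩

variable {h h' : M2 F} (e : 2 * h.det = 1) (e' : 2 * h'.det = 1)

theorem hd_z : hd h e * io F (-1, 1) = io F (-1, -1) * tt F * hd h e :=
  ext' (by simp [tt_val, io_val, hd_val, bk_mul])

theorem hd_tt : hd h e * tt F = io F (1, -1) * hd h e :=
  ext' (by simp [tt_val, io_val, hd_val, bk_mul])

theorem hd_io {x y : SL(2, F)} (hx : h * x.1 = y.1 * h) :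
    hd h e * io F (x, x) = io F (y, y) * hd h e :=
  ext' (by simp [io_val, hd_val, bk_mul, hx])

theorem hd_hd {x : SL(2, F)} (hx : h * h' + h * h' = x.1) : hd h e * hd h' e' = io F (x, x) :=
  ext' (by simp [io_val, hd_val, bk_mul, hx])

theorem card_Sp [Finite F] (h : Odd (Nat.card F)) :
    ∃ m, Odd m ∧ Nat.card (Sp F) = 2 * Nat.card SL(2, F) ^ 2 * m := by
  obtain ⟨r, hr⟩ := h
  refine ⟨(2 * r + 1) ^ 2 * (2 * (r ^ 2 + r) + 1), (Odd.pow ⟨r, rfl⟩).mul ⟨_, rfl⟩, ?_⟩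
  rw [H11.Sp.card_G, H10.card_SL_two, hr]
  simp only [Finset.prod_range_succ, Finset.prod_range_zero, add_tsub_cancel_right]
  rw [Nat.sub_eq_of_eq_add (c := 4 * r * (r + 1)) (by ring),
    Nat.sub_eq_of_eq_add (c := 4 * r * (r + 1) * ((2 * r + 1) ^ 2 + 1)) (by ring)]
  ring

theorem det_half (h2 : (2 : F) ≠ 0) {x y : SL(2, F)} (hx : x * x = -1) (hy : y * y = -1)
    (hxy : y * x = -(x * y)) : 2 * ((2 : F)⁻¹ • (x.1 + y.1)).det = 1 := by
  have t : ∀ {x : SL(2, F)}, x * x = -1 → H64.SL2.tr x = 0 := fun {x} hx =>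
    (H64.SL2.mem_center_or_tr_eq_zero_of_sq (hx ▸ H64.SL2.neg_one_mem_center)).resolve_left
      fun h => by
        rcases H64.SL2.mem_center_iff'.1 h with rfl | rfl <;>
          exact H64.SL2.neg_one_ne_one h2 (by simpa using hx.symm)
  have e1 := t hx
  have e2 := t hy
  have d1 := H64.SL2.det_eq x
  have d2 := H64.SL2.det_eq y
  simp only [H64.SL2.ent] at e1 e2 hxy
  rw [det_fin_two]
  simp only [Matrix.smul_apply, Matrix.add_apply, smul_eq_mul]
  field_simp
  change (x 0 0 + y 0 0) * (x 1 1 + y 1 1) - (x 0 1 + y 0 1) * (x 1 0 + y 1 0) = 2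
  linear_combination d1 + d2 + y 0 0 * e1 + x 0 0 * e2 - hxy.1

end H55.Sp4
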